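import Cfsg.Agent.H466.O8R.Om7Data
import Cfsg.Agent.H36.O8R.DataOm

/-!
# S3691, `PΩ⁺₈(q)`, DATA-OM: `PartM`, `PartS` of `H36/O8R/DataOm.lean` (helper466)
-/

set_option autoImplicit false

namespace Cfsg.Agent.H466.O8R

open Module QuadraticMap Cfsg Cfsg.Agent.LieClassical.OrthCore Cfsg.Agent.LieClassical.OrthTrans
  Cfsg.Agent.LieClassical.QuadForms
open Cfsg.Agent.H36.O8R (V7 vw va vb finrank_V7 nd_V7 two_ne PartM PartS)
open Cfsg.Agent.H36.Om7

variable {K : Type} [Field K]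

/-- the standard hyperbolic vectors -/
def u7 (K : Type) [Field K] (i : Fin 3) : V7 K := Pi.single (Sum.inr (Sum.inl i)) 1

/-- the standard hyperbolic vectors -/
def v7 (K : Type) [Field K] (i : Fin 3) : V7 K := Pi.single (Sum.inr (Sum.inr i)) 1

theorem polar7 (x y : V7 K) : polar (oddForm 3 K) x y = 2 * (x (.inl ()) * y (.inl ())) +
    ∑ i : Fin 3, (x (.inr (.inl i)) * y (.inr (.inr i)) + x (.inr (.inr i)) * y (.inr (.inl i))) := by
  rw [polar, Cfsg.Agent.H36.O8R.odd_apply, Cfsg.Agent.H36.O8R.odd_apply, Cfsg.Agent.H36.O8R.odd_apply]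
  simp only [Pi.add_apply, Fin.sum_univ_three]
  ring

theorem fr7 : Fr (oddForm 3 K) (u7 K) (v7 K) (vw K) where
  u0 i := by
    rw [Cfsg.Agent.H36.O8R.odd_apply]
    simp [u7]
  v0 i := by
    rw [Cfsg.Agent.H36.O8R.odd_apply]
    simp [v7]
  w1 := by
    rw [Cfsg.Agent.H36.O8R.odd_apply]
    simp [vw]
  uu i j := by
    rw [polar7]
    simp [u7]
  vv i j := by
    rw [polar7]
    simp [v7]
  uv i j := by
    rw [polar7]
    simp only [u7, v7, Pi.single_apply, Fin.sum_univ_three]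
    fin_cases i <;> fin_cases j <;> simp
  uw i := by
    rw [polar7]
    simp [u7, vw]
  vw i := by
    rw [polar7]
    simp [v7, vw]
  span := by
    rw [eq_top_iff]
    intro x _
    have h1 : x = x (.inl ()) • vw K + (∑ i, x (.inr (.inl i)) • u7 K i + ∑ i, x (.inr (.inr i)) • v7 K i) := by
      ext k
      rcases k with k | k | k
      · simp [vw, u7, v7, Finset.sum_apply]
      · simp [vw, u7, v7, Finset.sum_apply, Pi.single_apply]
      · simp [vw, u7, v7, Finset.sum_apply, Pi.single_apply]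
    rw [h1]
    refine Submodule.add_mem _ (Submodule.smul_mem _ _ (Submodule.subset_span (Or.inr rfl)))
      (Submodule.add_mem _ ?_ ?_)
    · exact Submodule.sum_mem _ fun i _ => Submodule.smul_mem _ _ (Submodule.subset_span (Or.inl (Or.inl ⟨i, rfl⟩)))
    · exact Submodule.sum_mem _ fun i _ => Submodule.smul_mem _ _ (Submodule.subset_span (Or.inl (Or.inr ⟨i, rfl⟩)))

theorem MM_eq : Cfsg.Agent.H36.O8R.MM K = MM (oddForm 3 K) (u7 K) (v7 K) (vw K) 0 0 := rfl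

/-- **PartM** -/
theorem partM [Fintype K] (hodd : Odd (Fintype.card K)) (h6 : 6 ≤ Fintype.card K) : PartM K := by
  obtain ⟨s, g, h1, h2, h3, h4, h5, h6', h7⟩ := om_sg (two_ne hodd) h6 (nd_V7 (two_ne hodd)) finrank_V7 (fr7 (K := K))
  refine ⟨s, g, h1, h5, h2, h3, h4, h6', le_antisymm ?_ h7⟩
  refine iSup_le fun i => ?_
  rintro _ ⟨x, hx, rfl⟩
  have h8 : x ∈ ⁅O (oddForm 3 K), O (oddForm 3 K)⁆ := Om_le hx
  exact Subgroup.mul_mem _ (Subgroup.mul_mem _ (h5 i) h8) (Subgroup.inv_mem _ (h5 i))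

theorem partS_aux [Fintype K] (hodd : Odd (Fintype.card K)) (h3 : 3 < Fintype.card K) :
    ⁅MM (oddForm 3 K) (u7 K) (v7 K) (vw K) 0 0, MM (oddForm 3 K) (u7 K) (v7 K) (vw K) 0 0⁆ =
      MM (oddForm 3 K) (u7 K) (v7 K) (vw K) 0 0 ∧
    ∀ N : Subgroup (V7 K ≃ₗ[K] V7 K), N ≤ MM (oddForm 3 K) (u7 K) (v7 K) (vw K) 0 0 →
      (∀ g ∈ MM (oddForm 3 K) (u7 K) (v7 K) (vw K) 0 0, ∀ x ∈ N, g * x * g⁻¹ ∈ N) → (∃ x ∈ N, x ^ 2 ≠ 1) →
        N = MM (oddForm 3 K) (u7 K) (v7 K) (vw K) 0 0 := by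
  refine ⟨M_perf (two_ne hodd) h3 (nd_V7 (two_ne hodd)) fr7, ?_⟩
  intro N h1 h2 h4
  obtain ⟨x, hx, hx2⟩ := h4
  exact M_top (two_ne hodd) h3 (nd_V7 (two_ne hodd)) fr7 h1 h2 hx hx2

/-- **PartS** -/
theorem partS [Fintype K] (hodd : Odd (Fintype.card K)) (h3 : 3 < Fintype.card K) : PartS K := by
  unfold PartS
  rw [MM_eq]
  exact partS_aux hodd h3

end Cfsg.Agent.H466.O8R
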