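import Cfsg.Agent.H466.O8R.Om

/-!
# S3691, `PΩ⁺₈(q)`, DATA-OM: rotations in a nondegenerate plane (helper466)
-/

set_option autoImplicit false

namespace Cfsg.Agent.H466.O8R

open QuadraticMap
open Cfsg.Agent.LieClassical.OrthCore

variable {F V : Type*} [Field F] [AddCommGroup V] [Module F V] {Q : QuadraticForm F V}

theorem refl_mem_PW {X : Submodule F V} {v : V} (hv : Q v ≠ 0) (h : ∀ x ∈ X, polar Q v x = 0) : refl Q v hv ∈ PW Q X :=
  ⟨refl_mem_O hv, fun x hx => by
    rw [refl_apply, h x hx]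
    simp⟩

theorem exists_param [Finite F] (hF : 6 ≤ Nat.card F) {α β : F} (hα : α ≠ 0) :
    ∃ t : F, t ≠ 0 ∧ α + β * t ^ 2 ≠ 0 ∧ α - β * t ^ 2 ≠ 0 := by
  have hft : Fintype F := Fintype.ofFinite F
  have key : ∀ t : F, t ≠ 0 → (α + β * t ^ 2 = 0 ∨ α - β * t ^ 2 = 0) → α ^ 2 = β ^ 2 * t ^ 4 := by
    intro t _ h
    rcases h with h | h
    · have : α = -(β * t ^ 2) := eq_neg_of_add_eq_zero_left h
      rw [this]
      ring
    · have : α = β * t ^ 2 := sub_eq_zero.1 h
      rw [this]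
      ring
  by_contra hcon
  push Not at hcon
  have key2 : ∀ t : F, t ≠ 0 → α ^ 2 = β ^ 2 * t ^ 4 := by
    intro t ht
    refine key t ht ?_
    by_cases h : α + β * t ^ 2 = 0
    · exact Or.inl h
    · exact Or.inr (hcon t ht h)
  have h1 := key2 1 one_ne_zero
  rw [one_pow, mul_one] at h1
  have hβ : β ^ 2 ≠ 0 := by rw [← h1]; exact pow_ne_zero _ hα
  obtain ⟨g, hg⟩ := IsCyclic.exists_generator (α := Fˣ)
  have h2 := key2 (g : F) g.ne_zero
  rw [h1] at h2
  have h3 : (g : F) ^ 4 = 1 := (mul_eq_left₀ hβ).1 h2.symm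
  have h4 : g ^ 4 = 1 := Units.ext (by rw [Units.val_pow_eq_pow_val, h3, Units.val_one])
  have h5 := Nat.le_of_dvd (by norm_num) (orderOf_dvd_of_pow_eq_one h4)
  have h6 : orderOf g = Nat.card Fˣ := orderOf_eq_card_of_forall_mem_zpowers hg
  rw [h6, Nat.card_units] at h5
  omega

/-- in every nondegenerate plane `⟨a, b⟩` there is a commutator of reflections whose square is not trivial -/
theorem exists_link [Finite F] (h2 : (2 : F) ≠ 0) (hF : 6 ≤ Nat.card F) {a b : V} (ha : Q a ≠ 0) (hb : Q b ≠ 0)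
    (hab : polar Q a b = 0) :
    ∃ x : V ≃ₗ[F] V, x ^ 2 ≠ 1 ∧ ∀ X : Submodule F V, (∀ v ∈ X, polar Q a v = 0 ∧ polar Q b v = 0) → x ∈ Om Q X := by
  obtain ⟨t, ht, hN, hN'⟩ := exists_param hF (β := Q b) ha
  have hba : polar Q b a = 0 := by rw [polar_comm]; exact hab
  have hQ : Q (a + t • b) = Q a + Q b * t ^ 2 := by
    rw [Q_add, QuadraticMap.map_smul, polar_smul_right, hab, smul_eq_mul, smul_eq_mul]
    ring
  have hc : Q (a + t • b) ≠ 0 := by rw [hQ]; exact hN
  obtain ⟨r, hr⟩ : ∃ r, r = refl Q (a + t • b) hc := ⟨_, rfl⟩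
  obtain ⟨r', hr'⟩ : ∃ r', r' = refl Q a ha := ⟨_, rfl⟩
  have hpa : polar Q (a + t • b) a = 2 * Q a := by
    rw [polar_add_left, polar_smul_left, polar_self', hba]
    simp
  have hpb : polar Q (a + t • b) b = 2 * Q b * t := by
    rw [polar_add_left, polar_smul_left, polar_self', hab]
    simp only [smul_eq_mul]
    ring
  -- the rotation
  obtain ⟨c, hc'⟩ : ∃ c, c = (Q a - Q b * t ^ 2) / (Q a + Q b * t ^ 2) := ⟨_, rfl⟩
  obtain ⟨s, hs⟩ : ∃ s, s = 2 * Q a * t / (Q a + Q b * t ^ 2) := ⟨_, rfl⟩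
  obtain ⟨s', hs'⟩ : ∃ s', s' = 2 * Q b * t / (Q a + Q b * t ^ 2) := ⟨_, rfl⟩
  have hcs : c ^ 2 + s * s' = 1 := by
    rw [hc', hs, hs']
    field_simp
    ring
  have hra : (r * r') a = c • a + s • b := by
    show r (r' a) = _
    have e1 : r' a = -a := by
      rw [hr', refl_apply, polar_self']
      have : (Q a)⁻¹ * (2 * Q a) = 2 := by field_simp
      rw [this, two_smul]
      abel
    rw [e1, map_neg, hr, refl_apply, hpa, hQ, hc', hs]
    have : -(a - ((Q a + Q b * t ^ 2)⁻¹ * (2 * Q a)) • (a + t • b)) =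
        ((Q a + Q b * t ^ 2)⁻¹ * (2 * Q a) - 1) • a + ((Q a + Q b * t ^ 2)⁻¹ * (2 * Q a) * t) • b := by module
    rw [this]
    congr 2
    · field_simp
      ring
    · field_simp
  have hrb : (r * r') b = (-s') • a + c • b := by
    show r (r' b) = _
    have e1 : r' b = b := by
      rw [hr', refl_apply, hab]
      simp
    rw [e1, hr, refl_apply, hpb, hQ, hc', hs']
    have : b - ((Q a + Q b * t ^ 2)⁻¹ * (2 * Q b * t)) • (a + t • b) =
        (-((Q a + Q b * t ^ 2)⁻¹ * (2 * Q b * t))) • a + (1 - (Q a + Q b * t ^ 2)⁻¹ * (2 * Q b * t) * t) • b := by module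
    rw [this]
    congr 2
    · field_simp
    · field_simp
      ring
  have hc0 : c ≠ 0 := by
    rw [hc']
    exact div_ne_zero hN' hN
  have hs0 : s * s' ≠ 0 := by
    rw [hs, hs']
    exact mul_ne_zero (div_ne_zero (mul_ne_zero (mul_ne_zero h2 ha) ht) hN)
      (div_ne_zero (mul_ne_zero (mul_ne_zero h2 hb) ht) hN)
  -- two applications
  have h2a : (r * r') ((r * r') a) = (2 * c ^ 2 - 1) • a + (2 * c * s) • b := by
    rw [hra, map_add, map_smul, map_smul, hra, hrb]
    have : c • (c • a + s • b) + s • (-s' • a + c • b) = (c ^ 2 - s * s') • a + (2 * c * s) • b := by module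
    rw [this]
    congr 2
    linear_combination -hcs
  have h2b : (r * r') ((r * r') b) = (-(2 * c * s')) • a + (2 * c ^ 2 - 1) • b := by
    rw [hrb, map_add, map_smul, map_smul, hra, hrb]
    have : -s' • (c • a + s • b) + c • (-s' • a + c • b) = (-(2 * c * s')) • a + (c ^ 2 - s * s') • b := by module
    rw [this]
    congr 2
    linear_combination -hcs
  have h4a : (r * r') ((r * r') ((r * r') ((r * r') a))) =
      (2 * (2 * c ^ 2 - 1) ^ 2 - 1) • a + (4 * c * s * (2 * c ^ 2 - 1)) • b := by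
    rw [h2a, map_add, map_smul, map_smul, map_add, map_smul, map_smul, h2a, h2b]
    have : (2 * c ^ 2 - 1) • ((2 * c ^ 2 - 1) • a + (2 * c * s) • b) +
        (2 * c * s) • (-(2 * c * s') • a + (2 * c ^ 2 - 1) • b) =
        ((2 * c ^ 2 - 1) ^ 2 - 4 * c ^ 2 * (s * s')) • a + (4 * c * s * (2 * c ^ 2 - 1)) • b := by module
    rw [this]
    congr 2
    linear_combination (-4 * c ^ 2) * hcs
  refine ⟨(r * r') * (r * r'), fun h => ?_, fun X hX => ?_⟩
  · have h5 := congrArg (fun g : V ≃ₗ[F] V => polar Q a (g a)) h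
    rw [pow_two] at h5
    have h6 : polar Q a ((r * r') ((r * r') ((r * r') ((r * r') a)))) = polar Q a a := h5
    rw [h4a, polar_add_right, polar_smul_right, polar_smul_right, hab, polar_self'] at h6
    simp only [smul_eq_mul, mul_zero, add_zero] at h6
    have h7 : (2 * (2 * c ^ 2 - 1) ^ 2 - 1) = 1 := by
      have h8 : (2 * Q a) * (2 * (2 * c ^ 2 - 1) ^ 2 - 1) = (2 * Q a) * 1 := by
        rw [mul_one, mul_comm]
        exact h6
      exact mul_left_cancel₀ (mul_ne_zero h2 ha) h8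
    have h8 : (2 * 2 * 2) * (c ^ 2 * (s * s')) = 0 := by
      have h9 : s * s' = 1 - c ^ 2 := by linear_combination hcs
      rw [h9]
      linear_combination -h7
    exact mul_ne_zero (mul_ne_zero (mul_ne_zero h2 h2) h2) (mul_ne_zero (pow_ne_zero _ hc0) hs0) h8
  · have m1 : r ∈ PW Q X := by
      rw [hr]
      refine refl_mem_PW hc fun x hx => ?_
      rw [polar_add_left, polar_smul_left, (hX x hx).1, (hX x hx).2]
      simp
    have m2 : r' ∈ PW Q X := by
      rw [hr']
      exact refl_mem_PW ha fun x hx => (hX x hx).1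
    have e1 : r⁻¹ = r := by rw [hr]; exact refl_inv hc
    have e2 : r'⁻¹ = r' := by rw [hr']; exact refl_inv ha
    have h3 := comm_mem m1 m2
    rw [e1, e2] at h3
    rwa [← mul_assoc]

end Cfsg.Agent.H466.O8R
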